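import Cfsg.Agent.H105.Og.Defs
import Cfsg.Agent.H514.DP.Core
import Cfsg.Agent.H990.TC.CentDec
import Cfsg.Agent.S0286
import Cfsg.Agent.LieClassical.OrthSimple
import Cfsg.Agent.H36.Og.LemC

/-!
# The groups `Ω_7(q)`, primes dividing `q² + 1` (helper16, for S2454)
-/

set_option autoImplicit false

namespace Cfsg.Agent.H16.Og

open QuadraticMap Matrix Module Subgroup Cfsg.Agent.LieClassical.OrthCore Cfsg.Agent.LieClassical.OrthTrans
  Cfsg.Agent.LieClassical.OrthFinite Cfsg.Agent.H105.Og Cfsg.Agent.H514.DP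

section Odd

variable {F : Type*} [Field F] {V : Type*} [AddCommGroup V] [Module F V] {Q : QuadraticForm F V}

/-- squares are in `E` -/
theorem sq_mem_E [FiniteDimensional F V] (hG : Good Q) {g : V ≃ₗ[F] V} (hg : g ∈ O Q) : g * g ∈ E Q := by
  have hcomm : ∀ g ∈ O Q, ∀ h ∈ O Q, g * h * g⁻¹ * h⁻¹ ∈ E Q := by
    intro g hg h hh
    rw [← hG.commutator_eq_E]
    exact Subgroup.commutator_mem_commutator hg hh
  rw [O_eq_closure hG.nondeg] at hg
  have hle : ∀ x ∈ Subgroup.closure (reflSet Q ∪ siegelSet Q), x ∈ O Q := fun x hx => by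
    rw [O_eq_closure hG.nondeg]; exact hx
  induction hg using Subgroup.closure_induction with
  | mem x hx =>
    rcases hx with ⟨v, hv, rfl⟩ | hx
    · rw [refl_mul_self]; exact one_mem _
    · exact mul_mem (Subgroup.subset_closure hx) (Subgroup.subset_closure hx)
  | one => rw [one_mul]; exact one_mem _
  | mul g h hg hh h1 h2 =>
    have e : g * h * (g * h) = (g * g) * (g⁻¹ * h * g⁻¹⁻¹ * h⁻¹) * (h * h) := by group
    rw [e]
    exact mul_mem (mul_mem h1 (hcomm _ (inv_mem (hle g hg)) _ (hle h hh))) h2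
  | inv g hg h =>
    have e : g⁻¹ * g⁻¹ = (g * g)⁻¹ := by group
    rw [e]
    exact inv_mem h

/-- elements of odd order are in `E` -/
theorem mem_E_of_odd [FiniteDimensional F V] (hG : Good Q) {g : V ≃ₗ[F] V} (hg : g ∈ O Q) {m : ℕ} (hm : Odd m)
    (h : g ^ m = 1) : g ∈ E Q := by
  obtain ⟨k, rfl⟩ := hm
  have h1 : g = (g ^ (k + 1) * g ^ (k + 1)) := by
    rw [← pow_add, show k + 1 + (k + 1) = (2 * k + 1) + 1 by ring, pow_succ, h, one_mul]
  rw [h1]
  exact sq_mem_E hG (pow_mem hg _)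

end Odd

section Exists

variable {F : Type} [Field F] [Finite F] {U : Type} [AddCommGroup U] [Module F U] [FiniteDimensional F U]

/-- isometries of given prime order -/
theorem exists_isom {n : ℕ} {p : ℕ} (hp : p.Prime) (h2 : (2 : F) ≠ 0) {R : QuadraticForm F U} (hR : Nondeg R)
    (hU : finrank F U = 1) {i : ℕ} (hi : i < n) (hd : p ∣ Nat.card F ^ (2 * (i + 1)) - 1) :
    ∃ g ∈ O (HU (Fin n) R), orderOf g = p := by
  classical
  have := Fintype.ofFinite F
  have : Fact p.Prime := ⟨hp⟩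
  -- an element of the matrix group
  have hodd : Odd (Nat.card F) := by
    rcases Nat.even_or_odd (Nat.card F) with h | h
    · exfalso
      rw [Nat.card_eq_fintype_card] at h
      have h3 : ringChar F = 2 := by
        by_contra hne
        have := FiniteField.odd_card_of_char_ne_two hne
        rw [Nat.even_iff] at h
        omega
      exact h2 (by have := (CharP.cast_eq_zero F (ringChar F)); rw [h3] at this; exact_mod_cast this)
    · exact h
  have hcard := S0286.result (F := F) rfl (by rw [← Nat.card_eq_fintype_card]; exact hodd) n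
  have hdv : p ∣ Nat.card (Cfsg.isometryGroup F (Cfsg.quadFormOdd n F)) := by
    rw [hcard]
    refine dvd_mul_of_dvd_right ?_ _
    refine dvd_trans ?_ (Finset.dvd_prod_of_mem _ (Finset.mem_range.2 hi))
    rw [← Nat.card_eq_fintype_card]
    exact hd
  have : Finite (Cfsg.isometryGroup F (Cfsg.quadFormOdd n F)) := inferInstance
  obtain ⟨x, hx⟩ := exists_prime_orderOf_dvd_card' p hdv
  -- the coordinates
  let φ : U ≃ₗ[F] F := LinearEquiv.ofFinrankEq U F (by rw [hU, finrank_self])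
  set u0 : U := φ.symm 1 with hu0
  have hφ : ∀ t : F, φ.symm t = t • u0 := by
    intro t
    rw [hu0, ← map_smul, smul_eq_mul, mul_one]
  have hr0 : R u0 ≠ 0 := by
    intro h0
    have h3 : u0 = 0 := by
      apply hR
      intro y
      have h4 : y = φ y • u0 := by rw [← hφ, LinearEquiv.symm_apply_apply]
      rw [h4, polar_smul_right, polar_self, h0, smul_zero, smul_zero]
    have h4 : φ u0 = 1 := by rw [hu0, LinearEquiv.apply_symm_apply]
    rw [h3, map_zero] at h4
    exact zero_ne_one h4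
  set r := R u0 with hr
  let e : (Unit ⊕ (Fin n ⊕ Fin n) → F) ≃ₗ[F] (((Fin n → F) × (Fin n → F)) × U) :=
    { toFun := fun v => ((fun i => v (.inr (.inl i)), fun i => r * v (.inr (.inr i))), φ.symm (v (.inl ())))
      map_add' := fun v w => by
        refine Prod.ext (Prod.ext rfl ?_) ?_
        · funext i
          show r * (v _ + w _) = r * v _ + r * w _
          ring
        · exact map_add φ.symm _ _
      map_smul' := fun c v => by
        refine Prod.ext (Prod.ext rfl ?_) ?_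
        · funext i
          show r * (c * v _) = c * (r * v _)
          ring
        · exact map_smul φ.symm c _
      invFun := fun w => Sum.elim (fun _ => φ w.2) (Sum.elim w.1.1 (fun i => r⁻¹ * w.1.2 i))
      left_inv := fun v => by
        funext i
        rcases i with i | i | i
        · exact φ.apply_symm_apply _
        · rfl
        · show r⁻¹ * (r * v _) = v _
          rw [← mul_assoc, inv_mul_cancel₀ hr0, one_mul]
      right_inv := fun w => by
        refine Prod.ext (Prod.ext rfl ?_) ?_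
        · funext i
          show r * (r⁻¹ * w.1.2 i) = w.1.2 i
          rw [← mul_assoc, mul_inv_cancel₀ hr0, one_mul]
        · exact φ.symm_apply_apply _ }
  have he : ∀ v, HU (Fin n) R (e v) = r * Cfsg.quadFormOdd n F v := by
    intro v
    rw [HU_apply]
    show (fun i => v (.inr (.inl i))) ⬝ᵥ (fun i => r * v (.inr (.inr i))) + R (φ.symm (v (.inl ()))) = _
    rw [hφ, QuadraticMap.map_smul, ← hr, Cfsg.quadFormOdd, dotProduct, mul_add, Finset.mul_sum, smul_eq_mul, add_comm]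
    congr 1
    · ring
    · refine Finset.sum_congr rfl fun i _ => ?_
      ring
  let ψ : Cfsg.isometryGroup F (Cfsg.quadFormOdd n F) →* ((((Fin n → F) × (Fin n → F)) × U) ≃ₗ[F] (((Fin n → F) × (Fin n → F)) × U)) :=
    (H122.OrthIso.cj e).toMonoidHom.comp ((glEquiv (Unit ⊕ (Fin n ⊕ Fin n)) F).toMonoidHom.comp
      (Cfsg.isometryGroup F (Cfsg.quadFormOdd n F)).subtype)
  have hψ : Function.Injective ψ :=
    (H122.OrthIso.cj e).injective.comp ((glEquiv (Unit ⊕ (Fin n ⊕ Fin n)) F).injective.comp (Subgroup.subtype_injective _))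
  refine ⟨ψ x, ?_, by rw [orderOf_injective ψ hψ, hx]⟩
  intro v
  obtain ⟨w, rfl⟩ := e.surjective v
  have h3 : ψ x (e w) = e ((x.1.1 : Matrix _ _ F).mulVec w) := by
    have h4 : e.symm (e w) = w := e.symm_apply_apply w
    show e ((x.1.1 : Matrix _ _ F).mulVec (e.symm (e w))) = _
    rw [h4]
  rw [h3, he, he, mem_isometryGroup_iff.1 x.2 w]

/-- the centralizer in `E` -/
theorem card_cent_le {V : Type*} [AddCommGroup V] [Module F V] [FiniteDimensional F V] {Q : QuadraticForm F V} (x : E Q) :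
    Nat.card (centralizer ({x} : Set (E Q))) ≤
      Nat.card {y : Module.End F V // Commute (x.1 : V →ₗ[F] V) y ∧ ∀ v, Q (y v) = Q v} := by
  refine Nat.card_le_card_of_injective (fun g => ⟨((g.1.1 : V ≃ₗ[F] V) : V →ₗ[F] V), ?_, ?_⟩) ?_
  · have h := mem_centralizer_singleton_iff.1 g.2
    have h1 : x.1 * g.1.1 = g.1.1 * x.1 := (congrArg Subtype.val h).symm
    apply LinearMap.ext
    intro v
    exact LinearEquiv.congr_fun h1 v
  · exact E_le_O g.1.2
  · intro a b hab
    apply Subtype.ext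
    apply Subtype.ext
    apply LinearEquiv.ext
    intro v
    exact LinearMap.congr_fun (congrArg Subtype.val hab) v

end Exists

section Num

theorem num7_aux {A D x : ℕ} (h1 : 9 * A ≤ 20 * x ^ 3) (h2 : 71 * x ^ 2 ≤ 81 * D) (hx : 9 ≤ x) : A ^ 16 < D ^ 28 := by
  have h3 : 9 ^ 16 * A ^ 16 ≤ 20 ^ 16 * x ^ 48 := by
    have := Nat.pow_le_pow_left h1 16
    rw [mul_pow, mul_pow, ← pow_mul] at this
    exact this
  have h4 : 71 ^ 28 * x ^ 56 ≤ 81 ^ 28 * D ^ 28 := by
    have := Nat.pow_le_pow_left h2 28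
    rw [mul_pow, mul_pow, ← pow_mul] at this
    exact this
  have h5 : 81 ^ 28 * 20 ^ 16 < 9 ^ 16 * 71 ^ 28 * x ^ 8 := by
    have : 9 ^ 8 ≤ x ^ 8 := Nat.pow_le_pow_left hx 8
    calc 81 ^ 28 * 20 ^ 16 < 9 ^ 16 * 71 ^ 28 * 9 ^ 8 := by norm_num
      _ ≤ _ := Nat.mul_le_mul_left _ this
  by_contra hcon
  push Not at hcon
  have hx48 : 0 < x ^ 48 := pow_pos (by omega) _
  have h6 : 81 ^ 28 * 20 ^ 16 * x ^ 48 < 9 ^ 16 * 71 ^ 28 * x ^ 8 * x ^ 48 := Nat.mul_lt_mul_of_pos_right h5 hx48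
  have h7 : 9 ^ 16 * (71 ^ 28 * x ^ 56) ≤ 81 ^ 28 * 20 ^ 16 * x ^ 48 := by
    calc 9 ^ 16 * (71 ^ 28 * x ^ 56) ≤ 9 ^ 16 * (81 ^ 28 * D ^ 28) := Nat.mul_le_mul_left _ h4
      _ ≤ 9 ^ 16 * (81 ^ 28 * A ^ 16) := Nat.mul_le_mul_left _ (Nat.mul_le_mul_left _ hcon)
      _ = 81 ^ 28 * (9 ^ 16 * A ^ 16) := by ring
      _ ≤ 81 ^ 28 * (20 ^ 16 * x ^ 48) := Nat.mul_le_mul_left _ h3
      _ = _ := by ring
  have h8 : 9 ^ 16 * 71 ^ 28 * x ^ 8 * x ^ 48 = 9 ^ 16 * (71 ^ 28 * x ^ 56) := by ring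
  rw [h8] at h6
  exact absurd (h7.trans_lt h6) (lt_irrefl _)

theorem num7 {q : ℕ} (hq : 3 ≤ q) : ((q ^ 2 + 1) * (2 * q ^ 4)) ^ 16 < ((q - 1) * (q ^ 3 + q ^ 2) - 1) ^ 28 := by
  -- `d = q⁴ - q² - 1 ≥ 71/81 q⁴`, `C ≤ 20/9 q⁶`
  have hd : (q - 1) * (q ^ 3 + q ^ 2) - 1 = q ^ 4 - q ^ 2 - 1 := by
    obtain ⟨k, rfl⟩ := Nat.exists_eq_add_of_le' hq
    have h1 : (k + 3 - 1) * ((k + 3) ^ 3 + (k + 3) ^ 2) + (k + 3) ^ 2 = (k + 3) ^ 4 := by
      show (k + 2) * _ + _ = _
      ring
    omega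
  rw [hd]
  set x := q ^ 2 with hx
  have hx9 : 9 ≤ x := Nat.pow_le_pow_left hq 2
  have e4 : q ^ 4 = x ^ 2 := by rw [hx]; ring
  rw [e4]
  refine num7_aux (x := x) ?_ ?_ hx9
  · nlinarith [Nat.zero_le (x ^ 2)]
  · have h3 : 81 * (x + 1) ≤ 10 * x ^ 2 := by nlinarith
    omega

end Num

theorem zmod_two : ∀ a : ZMod 2, a ≠ 0 → a = 1 := by decide

/-- **LEMMA X3**, given the degree bound. -/
theorem lemmaX_seven_of {F : Type} [Field F] [Finite F] {U : Type} [AddCommGroup U] [Module F U] [FiniteDimensional F U]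
    {p : ℕ} (hp : p.Prime) (ho : orderOf ((Nat.card F : ℕ) : ZMod p) = 4)
    (h2 : (2 : F) ≠ 0) {R : QuadraticForm F U} (hR : Nondeg R) (hU : finrank F U = 1)
    (hA : MinDeg (E (HU (Fin 3) R)) ((Nat.card F - 1) * (Nat.card F ^ 3 + Nat.card F ^ 2) - 1)) :
    PW p 70 (E (HU (Fin 3) R)) := by
  have := Fintype.ofFinite F
  have : Fact p.Prime := ⟨hp⟩
  set Q := HU (Fin 3) R with hQ
  have hnd : Nondeg Q := nondeg_HU hR
  have hdim : finrank F (((Fin 3 → F) × (Fin 3 → F)) × U) = 7 := by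
    rw [finrank_prod, finrank_prod, finrank_fin_fun, hU]
  have hG : Good Q := good_of_finite hnd (by omega)
  have hq3 : 3 ≤ Nat.card F := by
    have h1 : 2 ≤ Nat.card F := Finite.one_lt_card
    have h3 : Nat.card F ≠ 2 := by
      intro h
      apply h2
      have := FiniteField.cast_card_eq_zero F
      rw [← Nat.card_eq_fintype_card, h] at this
      exact_mod_cast this
    omega
  -- arithmetic
  have hq0 : ((Nat.card F : ℕ) : ZMod p) ≠ 0 := by
    intro h0
    rw [h0] at ho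
    have := pow_orderOf_eq_one (0 : ZMod p)
    rw [ho] at this
    norm_num at this
  have h4 : p ∣ Nat.card F ^ 4 - 1 := by
    have h5 : ((Nat.card F : ℕ) : ZMod p) ^ 4 = 1 := by rw [← ho]; exact pow_orderOf_eq_one _
    rw [← ZMod.natCast_eq_zero_iff, Nat.cast_sub (Nat.one_le_pow _ _ (by omega))]
    push_cast
    rw [h5, sub_self]
  have hn2 : ¬ p ∣ Nat.card F ^ 2 - 1 := by
    intro h
    rw [← ZMod.natCast_eq_zero_iff, Nat.cast_sub (Nat.one_le_pow _ _ (by omega))] at h
    push_cast at h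
    have h5 := orderOf_dvd_of_pow_eq_one (sub_eq_zero.1 h)
    rw [ho] at h5
    exact absurd (Nat.le_of_dvd (by norm_num) h5) (by norm_num)
  have hk : p ∣ Nat.card F ^ 2 + 1 := by
    have hfac : Nat.card F ^ 4 - 1 = (Nat.card F ^ 2 + 1) * (Nat.card F ^ 2 - 1) := by
      have := Nat.sq_sub_sq (Nat.card F ^ 2) 1
      rw [← pow_mul] at this
      simpa using this
    rw [hfac] at h4
    exact ((Nat.Prime.dvd_mul hp).1 h4).resolve_right hn2
  have hpodd : Odd p := by
    refine hp.odd_of_ne_two ?_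
    rintro rfl
    have h5 : ((Nat.card F : ℕ) : ZMod 2) = 1 := zmod_two _ hq0
    rw [h5, orderOf_one] at ho
    norm_num at ho
  have hpF : (p : F) ≠ 0 := by
    intro h0
    obtain ⟨l, hl⟩ := CharP.exists F
    have hlp : l.Prime := CharP.char_is_prime F l
    have h5 : p = l := (Nat.prime_dvd_prime_iff_eq hlp hp).1 ((CharP.cast_eq_zero_iff F l p).1 h0) |>.symm
    subst h5
    apply hq0
    have h6 := FiniteField.cast_card_eq_zero F
    rw [← Nat.card_eq_fintype_card] at h6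
    rw [ZMod.natCast_eq_zero_iff]
    exact (CharP.cast_eq_zero_iff F p _).1 h6
  -- the element
  obtain ⟨g, hgO, hg⟩ := exists_isom (n := 3) (i := 1) hp h2 hR hU (by norm_num) h4
  have hgE : g ∈ E Q := mem_E_of_odd hG hgO hpodd (by rw [← hg, pow_orderOf_eq_one])
  let x : E Q := ⟨g, hgE⟩
  have hx : orderOf x = p := by
    rw [← hg]
    exact (orderOf_injective (E Q).subtype (Subgroup.subtype_injective _) x).symm
  have hg1 : (g : (((Fin 3 → F) × (Fin 3 → F)) × U) →ₗ[F] (((Fin 3 → F) × (Fin 3 → F)) × U)) ≠ 1 := by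
    intro h
    have h5 : g = 1 := by
      apply LinearEquiv.ext
      intro v
      exact LinearMap.congr_fun h v
    rw [h5, orderOf_one] at hg
    exact hp.one_lt.ne hg
  have hgp : (g : (((Fin 3 → F) × (Fin 3 → F)) × U) →ₗ[F] (((Fin 3 → F) × (Fin 3 → F)) × U)) ^ p = 1 := by
    have h5 : g ^ p = 1 := by rw [← hg, pow_orderOf_eq_one]
    have h6 : ∀ k : ℕ, ∀ v, ((g : (((Fin 3 → F) × (Fin 3 → F)) × U) →ₗ[F] (((Fin 3 → F) × (Fin 3 → F)) × U)) ^ k) v = (g ^ k) v := by
      intro k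
      induction k with
      | zero => intro v; rfl
      | succ k ih => intro v; rw [pow_succ, pow_succ, Module.End.mul_apply, ih]; rfl
    apply LinearMap.ext
    intro v
    rw [h6, h5]
    rfl
  have hdec := H990.TC.Cent.dec Q (fun u hu => hnd u fun y => by rw [polar_comm]; exact hu y) hp hpF
    (g : (((Fin 3 → F) × (Fin 3 → F)) × U) →ₗ[F] (((Fin 3 → F) × (Fin 3 → F)) × U)) hg1 hgp hgO (k := 2) ho (by omega) hk
    (2 * Nat.card F ^ 4) (by
      intro W hW hWnd
      refine H36.Og.lemmaC3 (Q.comp W.subtype) ?_ (by rw [hW, hdim])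
      intro u hu
      exact hWnd u fun v => by rw [polar_comm]; exact hu v)
  have hcard : Nat.card (centralizer ({x} : Set (E Q))) ≤ (Nat.card F ^ 2 + 1) * (2 * Nat.card F ^ 4) :=
    (card_cent_le x).trans hdec
  have hperf : commutator (E Q) = ⊤ := by
    rw [eq_top_iff]
    intro y _
    have h5 : y.1 ∈ ⁅E Q, E Q⁆ := by rw [hG.E_perfect]; exact y.2
    have h6 : (⁅E Q, E Q⁆ : Subgroup _) = (commutator (E Q)).map (E Q).subtype := by
      rw [_root_.commutator_def, Subgroup.map_commutator, ← MonoidHom.range_eq_map, Subgroup.range_subtype]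
    rw [h6] at h5
    obtain ⟨z, hz, hzy⟩ := h5
    have : z = y := Subtype.ext hzy
    rw [← this]
    exact hz
  have hfV : Finite (((Fin 3 → F) × (Fin 3 → F)) × U) := Module.finite_of_finite F
  have hfE : Finite ((((Fin 3 → F) × (Fin 3 → F)) × U) ≃ₗ[F] (((Fin 3 → F) × (Fin 3 → F)) × U)) := DFunLike.finite _
  have h7 := PW.of_pe (m := 1) (k := 16) hperf (IsPE.of_prime hx).pe hA (by norm_num)
    (lt_of_le_of_lt (Nat.pow_le_pow_left (by omega) 16) (num7 hq3))
  exact h7.mono (by norm_num)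

end Cfsg.Agent.H16.Og
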